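import Mathlib

/-!
The differential of a lift of Frobenius, divided by `p`.
-/

set_option autoImplicit false

universe u v w

open Finset

noncomputable section

namespace Groth.Agent.FrobDiv3

/-- `((a + b) ^ p - a ^ p - b ^ p) / p`. -/
def cross {R : Type v} [CommRing R] (p : ℕ) (a b : R) : R :=
  ∑ k ∈ Ioo 0 p, a ^ k * b ^ (p - k) * ↑(p.choose k / p)

theorem add_pow_eq {R : Type v} [CommRing R] {p : ℕ} (hp : p.Prime) (a b : R) :
    (a + b) ^ p = a ^ p + b ^ p + p * cross p a b :=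
  add_pow_prime_eq' hp a b

theorem map_cross {R : Type v} {S : Type w} [CommRing R] [CommRing S] (f : R →+* S) (p : ℕ) (a b : R) :
    f (cross p a b) = cross p (f a) (f b) := by
  simp [cross, map_sum, map_mul, map_pow, map_natCast]

section der

variable {A : Type v} [CommRing A] {M : Type w} [AddCommGroup M] [Module A M]
  (D : A →+ M) (hD : ∀ a b, D (a * b) = a • D b + b • D a)

include hD

theorem der_one : D 1 = 0 := by
  have h := hD 1 1
  rw [one_mul, one_smul] at h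
  exact left_eq_add.1 h

theorem der_natCast (n : ℕ) : D (n : A) = 0 := by
  induction n with
  | zero => rw [Nat.cast_zero, map_zero]
  | succ n ih => rw [Nat.cast_succ, map_add, ih, der_one D hD, add_zero]

theorem der_intCast (n : ℤ) : D (n : A) = 0 := by
  obtain ⟨m, rfl | rfl⟩ := n.eq_nat_or_neg
  · simpa using der_natCast D hD m
  · simp [map_neg, der_natCast D hD m]

theorem der_pow_succ (a : A) (m : ℕ) : D (a ^ (m + 1)) = ((m + 1 : ℕ) : A) • a ^ m • D a := by
  induction m with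
  | zero => rw [pow_one, pow_zero, one_smul, Nat.cast_one, one_smul]
  | succ m ih =>
    rw [pow_succ, hD, ih, smul_smul, smul_smul, ← add_smul, smul_smul]
    congr 1
    push_cast
    ring

theorem der_pow_p {p : ℕ} (hp : 0 < p) (hp0 : (p : A) = 0) (a : A) : D (a ^ p) = 0 := by
  obtain ⟨m, rfl⟩ : ∃ m, p = m + 1 := ⟨p - 1, (Nat.sub_add_cancel hp).symm⟩
  rw [der_pow_succ D hD, hp0, zero_smul]

open MvPolynomial in
theorem der_aeval (v : Fin 2 → A) (S : MvPolynomial (Fin 2) ℤ) :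
    D (aeval v S) = aeval v (pderiv 0 S) • D (v 0) + aeval v (pderiv 1 S) • D (v 1) := by
  induction S using MvPolynomial.induction_on with
  | C z => simp [der_intCast D hD]
  | add S T hS hT =>
    rw [map_add, map_add, hS, hT, map_add, map_add, map_add, map_add, add_smul, add_smul]
    abel
  | mul_X S i hS =>
    rw [map_mul, hD, hS, aeval_X, smul_add, smul_smul, smul_smul, pderiv_mul, pderiv_mul, map_add, map_add,
      map_mul, map_mul, map_mul, map_mul, aeval_X]
    fin_cases i <;> simp [add_smul, mul_comm] <;> abel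

open MvPolynomial in
/-- The differential of `cross`. -/
theorem der_cross {p : ℕ} (hp : p.Prime) (a b : A) :
    D (cross p a b) = ((a + b) ^ (p - 1) - a ^ (p - 1)) • D a + ((a + b) ^ (p - 1) - b ^ (p - 1)) • D b := by
  let P := MvPolynomial (Fin 2) ℤ
  let S : P := cross p (X 0) (X 1)
  have hS : (X 0 + X 1 : P) ^ p = X 0 ^ p + X 1 ^ p + (p : P) * S := add_pow_eq hp _ _
  have hp0 : (p : P) ≠ 0 := Nat.cast_ne_zero.2 hp.ne_zero
  have key : ∀ i : Fin 2, pderiv i S = (X 0 + X 1 : P) ^ (p - 1) - X i ^ (p - 1) := fun i => by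
    have h := congrArg (pderiv i) hS
    rw [pderiv_pow, map_add, map_add, map_add, pderiv_pow, pderiv_pow, pderiv_mul] at h
    have hn : pderiv i (p : P) = 0 := by rw [← map_natCast (C (σ := Fin 2) (R := ℤ)), pderiv_C]
    rw [hn, zero_mul, zero_add] at h
    refine mul_left_cancel₀ hp0 ?_
    obtain rfl | rfl : i = 0 ∨ i = 1 := by omega
    · simp only [pderiv_X_self, pderiv_X_of_ne (show (1 : Fin 2) ≠ 0 by decide)] at h
      linear_combination -h
    · simp only [pderiv_X_self, pderiv_X_of_ne (show (0 : Fin 2) ≠ 1 by decide)] at h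
      linear_combination -h
  have hab : aeval ![a, b] S = cross p a b := by
    show (aeval ![a, b]).toRingHom S = _
    rw [map_cross]
    simp
  rw [← hab, der_aeval D hD, key, key]
  simp

end der

/-- The data of a lift of Frobenius of an algebra in characteristic `p`. -/
structure Setup (p : ℕ) (B : Type u) (A : Type v) [CommRing B] [CommRing A] where
  π : B →+* A
  Φ : B →+* B
  surj : Function.Surjective π
  ker : ∀ b, π b = 0 ↔ ∃ c, b = p * c
  tor : ∀ b, (p : B) * b = 0 → π b = 0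
  sq : (p : B) * p = 0
  frob : ∀ b, π (Φ b) = π b ^ p

namespace Setup

variable {p : ℕ} [hp : Fact p.Prime] {B : Type u} {A : Type v} [CommRing B] [CommRing A] (𝔖 : Setup p B A)

omit hp in
theorem cast_eq_zero (𝔖 : Setup p B A) : (p : A) = 0 := by
  rw [← map_natCast 𝔖.π]
  exact (𝔖.ker _).2 ⟨1, (mul_one _).symm⟩

omit hp in
theorem exists_F (b : B) : ∃ F, 𝔖.Φ b = b ^ p + p * F := by
  obtain ⟨c, hc⟩ := (𝔖.ker (𝔖.Φ b - b ^ p)).1 (by rw [map_sub, 𝔖.frob, map_pow, sub_self])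
  exact ⟨c, by rw [← hc]; ring⟩

variable {M : Type w} [AddCommGroup M] [Module A M] (D : A →+ M) (hD : ∀ a b, D (a * b) = a • D b + b • D a)

include hD in
theorem well_defined {b b' F F' : B} (hb : 𝔖.π b = 𝔖.π b') (hF : 𝔖.Φ b = b ^ p + p * F)
    (hF' : 𝔖.Φ b' = b' ^ p + p * F') : D (𝔖.π F) = D (𝔖.π F') := by
  obtain ⟨c, hc⟩ := (𝔖.ker (b - b')).1 (by rw [map_sub, hb, sub_self])
  obtain rfl : b = b' + p * c := by rw [← hc]; ring
  have hpow : (b' + p * c) ^ p = b' ^ p := by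
    obtain ⟨m, hm⟩ : ∃ m, p = m + 2 := ⟨p - 2, (Nat.sub_add_cancel hp.out.two_le).symm⟩
    rw [add_pow_eq hp.out, mul_pow]
    have h1 : (p : B) ^ p = 0 := by
      conv_lhs => rw [hm]
      rw [pow_add, pow_two, hm.symm, 𝔖.sq, mul_zero]
    have h2 : (p : B) * cross p b' (p * c) = 0 := by
      rw [cross, Finset.mul_sum]
      refine Finset.sum_eq_zero fun k hk => ?_
      obtain ⟨l, hl⟩ : ∃ l, p - k = l + 1 := ⟨p - k - 1, by have := (Finset.mem_Ioo.1 hk).2; omega⟩
      rw [hl, pow_succ]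
      calc (p : B) * (b' ^ k * ((p * c) ^ l * (p * c)) * ↑(p.choose k / p))
          = ((p : B) * p) * (b' ^ k * (p * c) ^ l * c * ↑(p.choose k / p)) := by ring
        _ = 0 := by rw [𝔖.sq, zero_mul]
    rw [h1, h2]; ring
  rw [map_add, map_mul, map_natCast, hF', hpow] at hF
  have hz : (p : B) * (F - (F' + 𝔖.Φ c)) = 0 := by linear_combination -hF
  have h3 := 𝔖.tor _ hz
  rw [map_sub, map_add, 𝔖.frob, sub_eq_zero] at h3
  rw [h3, map_add, der_pow_p D hD hp.out.pos 𝔖.cast_eq_zero, add_zero]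

/-- `a ↦ a ^ (p - 1) da + d F(a)`. -/
def delta (a : A) : M :=
  a ^ (p - 1) • D a + D (𝔖.π (𝔖.exists_F (𝔖.surj a).choose).choose)

omit hp in
theorem exists_delta (a : A) : ∃ c, 𝔖.delta D a = a ^ (p - 1) • D a + D c :=
  ⟨_, rfl⟩

include hD in
theorem delta_eq {a : A} {b F : B} (hb : 𝔖.π b = a) (hF : 𝔖.Φ b = b ^ p + p * F) :
    𝔖.delta D a = a ^ (p - 1) • D a + D (𝔖.π F) :=
  congrArg (a ^ (p - 1) • D a + ·) (𝔖.well_defined D hD ((𝔖.surj a).choose_spec.trans hb.symm)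
    (𝔖.exists_F (𝔖.surj a).choose).choose_spec hF)

include hD in
theorem delta_add (a a' : A) : 𝔖.delta D (a + a') = 𝔖.delta D a + 𝔖.delta D a' := by
  obtain ⟨b, rfl⟩ := 𝔖.surj a
  obtain ⟨b', rfl⟩ := 𝔖.surj a'
  obtain ⟨F, hF⟩ := 𝔖.exists_F b
  obtain ⟨F', hF'⟩ := 𝔖.exists_F b'
  have h : 𝔖.Φ (b + b') = (b + b') ^ p + p * (F + F' - cross p b b') := by
    rw [map_add, hF, hF', add_pow_eq hp.out]
    ring
  rw [𝔖.delta_eq D hD rfl hF, 𝔖.delta_eq D hD rfl hF', 𝔖.delta_eq D hD (map_add _ b b') h, map_sub 𝔖.π,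
    map_sub, map_add 𝔖.π, map_add D, map_add D, map_cross, der_cross D hD hp.out, sub_smul, sub_smul, smul_add]
  abel

include hD in
theorem delta_mul (a a' : A) : 𝔖.delta D (a * a') = a ^ p • 𝔖.delta D a' + a' ^ p • 𝔖.delta D a := by
  obtain ⟨b, rfl⟩ := 𝔖.surj a
  obtain ⟨b', rfl⟩ := 𝔖.surj a'
  obtain ⟨F, hF⟩ := 𝔖.exists_F b
  obtain ⟨F', hF'⟩ := 𝔖.exists_F b'
  have h : 𝔖.Φ (b * b') = (b * b') ^ p + p * (b ^ p * F' + b' ^ p * F) := by
    rw [map_mul, hF, hF']
    linear_combination (F * F') * 𝔖.sq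
  obtain ⟨m, hm⟩ : ∃ m, p = m + 1 := ⟨p - 1, (Nat.sub_add_cancel hp.out.one_le).symm⟩
  have hm' : p - 1 = m := by omega
  rw [𝔖.delta_eq D hD rfl hF, 𝔖.delta_eq D hD rfl hF', 𝔖.delta_eq D hD (map_mul _ b b') h, map_add 𝔖.π,
    map_add D, map_mul 𝔖.π, map_mul 𝔖.π, map_pow 𝔖.π, map_pow 𝔖.π, hD, hD, hD, der_pow_p D hD hp.out.pos 𝔖.cast_eq_zero,
    der_pow_p D hD hp.out.pos 𝔖.cast_eq_zero, smul_zero, smul_zero, add_zero, add_zero, hm']
  simp only [hm, smul_add, smul_smul, pow_succ, mul_pow]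
  module

include hD in
theorem delta_pow_p (a : A) : 𝔖.delta D (a ^ p) = 0 := by
  have hone : 𝔖.delta D 1 = 0 := by
    have h := 𝔖.delta_mul D hD 1 1
    rw [one_mul, one_pow, one_smul] at h
    exact left_eq_add.1 h
  have h : ∀ m : ℕ, 𝔖.delta D (a ^ (m + 1)) = ((m + 1 : ℕ) : A) • (a ^ p) ^ m • 𝔖.delta D a := by
    intro m
    induction m with
    | zero => rw [pow_one, pow_zero, one_smul, Nat.cast_one, one_smul]
    | succ m ih =>
      rw [pow_succ, 𝔖.delta_mul D hD, ih, smul_smul, smul_smul, smul_smul, ← add_smul]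
      congr 1
      push_cast
      ring
  obtain ⟨m, hm⟩ : ∃ m, p = m + 1 := ⟨p - 1, (Nat.sub_add_cancel hp.out.one_le).symm⟩
  rw [show a ^ p = a ^ (m + 1) from congrArg (a ^ ·) hm, h m, ← hm, 𝔖.cast_eq_zero, zero_smul]

end Setup

end Groth.Agent.FrobDiv3
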