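import Groth.Agent.FrobDiv3.Algebra
import Groth.Agent.FrobAlg53.W2Basic
import Groth.Agent.Units47.Flat
import Groth.Agent.Curves2.AffineNil
import Groth.Prelude.Def_Frob

/-!
The algebraic data of a Frobenius lift over `W₂` on an affine open.
-/

set_option autoImplicit false
set_option linter.style.haveILetI false
set_option backward.isDefEq.respectTransparency.types false

universe u

open CategoryTheory CategoryTheory.Limits AlgebraicGeometry TopologicalSpace Opposite

noncomputable section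

namespace Groth.Agent.FrobDiv3

variable {p : ℕ} [Fact p.Prime] {k : Type u} [Field k] [CharP k p] [PerfectRing k p] {X Xl : Scheme.{u}}
  {f : X ⟶ Spec (CommRingCat.of k)} {g : Xl ⟶ Spec (CommRingCat.of (FrobAlg.W2 p k))}
  {i : X ⟶ Xl} (hsq : IsPullback i f g (Spec.map (CommRingCat.ofHom (FrobAlg.res p k))))

include hsq

theorem isClosedImmersion_i : IsClosedImmersion i :=
  MorphismProperty.of_isPullback hsq.flip (IsClosedImmersion.spec_of_surjective _ FrobAlg53.res_surjective)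

theorem ker_ideal (U : Xl.affineOpens) : i.ker.ideal U = Ideal.span {(p : Γ(Xl, U.1))} := by
  haveI : IsClosedImmersion (Spec.map (CommRingCat.ofHom (FrobAlg.res p k))) :=
    IsClosedImmersion.spec_of_surjective _ FrobAlg53.res_surjective
  rw [← hsq.isoPullback_hom_fst, Scheme.Hom.ker_comp_of_isIso, Scheme.IdealSheafData.ker_fst_of_isClosedImmersion,
    Units47.ker_specMap, Blow97.ideal_comap_idealSheaf, FrobAlg53.ker_res, Ideal.map_span, Set.image_singleton,
    map_natCast]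

omit [CharP k p] [PerfectRing k p] hsq in
theorem p_sq' [CharP k p] [PerfectRing k p] (g : Xl ⟶ Spec (CommRingCat.of (FrobAlg.W2 p k))) (U : Xl.Opens) :
    (p : Γ(Xl, U)) * p = 0 := by
  have h := congrArg (Units47.rU g U) (FrobAlg53.p_sq (p := p) (k := k))
  rwa [map_mul, map_natCast, map_zero] at h

theorem surjective_i : Surjective i := by
  haveI : Surjective (Spec.map (CommRingCat.ofHom (FrobAlg.res p k))) := by
    refine ⟨fun (x : PrimeSpectrum (FrobAlg.W2 p k)) => ?_⟩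
    have : RingHom.ker (FrobAlg.res p k) ≤ x.asIdeal := by
      rw [FrobAlg53.ker_res, Ideal.span_singleton_le_iff_mem]
      refine x.2.mem_of_pow_mem 2 ?_
      rw [pow_two, FrobAlg53.p_sq]
      exact x.asIdeal.zero_mem
    exact (range_comap_of_surjective _ _ FrobAlg53.res_surjective).ge this
  exact MorphismProperty.of_isPullback (P := @Surjective) hsq.flip inferInstance

theorem exists_lifted {U : X.Opens} (hU : IsAffineOpen U) : ∃ U' : Xl.Opens, IsAffineOpen U' ∧ i ⁻¹ᵁ U' = U := by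
  haveI := isClosedImmersion_i hsq
  haveI := surjective_i hsq
  obtain ⟨t, ht, ht'⟩ := i.isClosedEmbedding.isInducing.isOpen_iff.1 U.2
  let U' : Xl.Opens := ⟨t, ht⟩
  have hpre : i ⁻¹ᵁ U' = U := TopologicalSpace.Opens.ext ht'
  haveI : IsClosedImmersion (i ∣_ U') := IsZariskiLocalAtTarget.restrict (P := @IsClosedImmersion) inferInstance U'
  haveI : Surjective (i ∣_ U') := IsZariskiLocalAtTarget.restrict (P := @Surjective) inferInstance U'
  haveI : IsAffine (i ⁻¹ᵁ U' : Scheme.{u}) := hpre ▸ hU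
  refine ⟨U', Curves2.isAffine_of_nilpotent (i ∣_ U') fun V => ?_, hpre⟩
  have hs := (isPullback_morphismRestrict i U').paste_vert hsq
  rw [ker_ideal hs V]
  refine ⟨2, ?_⟩
  rw [Ideal.span_singleton_pow, pow_two, p_sq' (k := k) (U'.ι ≫ g)]
  exact Ideal.span_singleton_eq_bot.2 rfl

variable [FrobSch.IsCharP X p] {Fl : Xl ⟶ Xl} (hF : i ≫ Fl = FrobSch.frob X p ≫ i)

include hF in
theorem Fl_base (y : Xl) : Fl y = y := by
  obtain ⟨x, rfl⟩ := (surjective_i hsq).surj y
  have := congrArg (fun φ : X ⟶ Xl => φ x) hF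
  simpa using this

include hF in
theorem le_preimage (U' : Xl.Opens) : U' ≤ Fl ⁻¹ᵁ U' := fun y hy => by
  show Fl y ∈ U'
  rw [Fl_base hsq hF]
  exact hy

include hF in
/-- The data on a lifted affine open. -/
theorem exists_setup [Flat g] {U : X.Opens} {U' : Xl.Opens} (hU' : IsAffineOpen U') (h : i ⁻¹ᵁ U' = U) :
    ∃ 𝔖 : Setup p Γ(Xl, U') Γ(X, U), 𝔖.π = (i.appLE U' U h.ge).hom ∧
      𝔖.Φ = (Fl.appLE U' U' (le_preimage hsq hF U')).hom := by
  subst h
  haveI := isClosedImmersion_i hsq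
  have he : (i.appLE U' (i ⁻¹ᵁ U') le_rfl).hom = (i.app U').hom := by rw [Scheme.Hom.app_eq_appLE]
  refine ⟨
    { π := (i.appLE U' (i ⁻¹ᵁ U') le_rfl).hom
      Φ := (Fl.appLE U' U' (le_preimage hsq hF U')).hom
      surj := ?_, ker := ?_, tor := ?_, sq := p_sq' (k := k) g U', frob := ?_ }, rfl, rfl⟩
  · rw [he]; exact i.app_surjective U' hU'
  · intro b
    rw [he, ← RingHom.mem_ker, ← Scheme.Hom.ker_apply i ⟨U', hU'⟩, ker_ideal hsq, Ideal.mem_span_singleton]
    rfl
  · intro b hb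
    letI := (Units47.rU g U').toAlgebra
    haveI : Module.Flat (FrobAlg.W2 p k) Γ(Xl, U') := Units47.flat_rU g hU'
    obtain ⟨c, hc⟩ := (FrobAlg53.flat_iff (p := p) (k := k) Γ(Xl, U')).1 inferInstance b (by
      rw [Algebra.smul_def, map_natCast]; exact hb)
    rw [Algebra.smul_def, map_natCast] at hc
    rw [he, ← RingHom.mem_ker, ← Scheme.Hom.ker_apply i ⟨U', hU'⟩, ker_ideal hsq, Ideal.mem_span_singleton]
    exact ⟨c, hc⟩
  · intro b
    have h1 : Fl.appLE U' U' (le_preimage hsq hF U') ≫ i.appLE U' (i ⁻¹ᵁ U') le_rfl =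
        i.appLE U' (i ⁻¹ᵁ U') le_rfl ≫ (FrobSch.frob X p).appLE (i ⁻¹ᵁ U') (i ⁻¹ᵁ U') le_rfl := by
      rw [Scheme.Hom.appLE_comp_appLE, Scheme.Hom.appLE_comp_appLE]
      simp only [hF]
    refine (congr($(h1) b)).trans ?_
    rw [ConcreteCategory.comp_apply]
    have hfr : ∀ a : Γ(X, i ⁻¹ᵁ U'),
        (FrobSch.frob X p).appLE (i ⁻¹ᵁ U') (i ⁻¹ᵁ U') le_rfl a = a ^ p := fun a => by
      show (X.presheaf.map (homOfLE (le_refl (i ⁻¹ᵁ U'))).op).hom ((FrobSch.frob X p).app (i ⁻¹ᵁ U') a) = _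
      rw [FrobSch.frob_app, show (homOfLE (le_refl (i ⁻¹ᵁ U'))).op = 𝟙 (op (i ⁻¹ᵁ U')) from rfl,
        X.presheaf.map_id]
      rfl
    exact hfr _

end Groth.Agent.FrobDiv3
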