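import Groth.Agent.FrobDiv3.Wedge
import Groth.Agent.An92.Ample.Inverse
import Groth.Agent.Div89.NormalSheaf
import Groth.Agent.Coh69.AffinePush

/-!
A `p`-semilinear endomorphism of an invertible module gives a section of the inverse of its `(p^n - 1)`-st power.
-/

set_option autoImplicit false
set_option linter.style.haveILetI false
set_option backward.isDefEq.respectTransparency.types false
set_option maxHeartbeats 1000000

universe u

open CategoryTheory CategoryTheory.Limits AlgebraicGeometry TopologicalSpace Opposite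

noncomputable section

namespace Groth.Agent.FrobDiv3

open QC70
open Var76.LineBundle (IsFrame)

variable {p : ℕ} [Fact p.Prime] {X : Scheme.{u}} [FrobSch.IsCharP X p] {L : X.Modules} (ψ : L ⟶ Frob53.pf p L)

/-- Iterates. -/
def iter (U : X.Opens) : ℕ → Γ(L, U) → Γ(L, U)
  | 0, x => x
  | n + 1, x => semi ψ U (iter U n x)

theorem iter_smul (U : X.Opens) (r : Γ(X, U)) (x : Γ(L, U)) :
    ∀ n, iter ψ U n (r • x) = r ^ p ^ n • iter ψ U n x
  | 0 => by rw [pow_zero, pow_one]; rfl
  | n + 1 => by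
    show semi ψ U (iter ψ U n (r • x)) = _
    rw [iter_smul U r x n, semi_smul, ← pow_mul, ← pow_succ]
    rfl

theorem iter_res {U V : X.Opens} (h : V ≤ U) (x : Γ(L, U)) : ∀ n, iter ψ V n (res L h x) = res L h (iter ψ U n x)
  | 0 => rfl
  | n + 1 => by
    show semi ψ V (iter ψ V n (res L h x)) = _
    rw [iter_res h x n, semi_res]
    rfl

theorem exists_iter_ne_zero {U : X.Opens} [IsDomain Γ(X, U)] {e : Γ(L, U)} {D : Γ(X, U)} (hD : D ≠ 0)
    (h : semi ψ U e = D • e) : ∀ n, ∃ g : Γ(X, U), g ≠ 0 ∧ iter ψ U n e = g • e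
  | 0 => ⟨1, one_ne_zero, (one_smul _ _).symm⟩
  | n + 1 => by
    obtain ⟨g, hg, hge⟩ := exists_iter_ne_zero hD h n
    refine ⟨g ^ p * D, mul_ne_zero (pow_ne_zero _ hg) hD, ?_⟩
    show semi ψ U (iter ψ U n e) = _
    rw [hge, semi_smul, h, smul_smul]

theorem isUnit_of_frames {V : X.Opens} {e e' : Γ(L, V)} (he : IsFrame L V e) (he' : IsFrame L V e') {u : Γ(X, V)}
    (hu : u • e = e') : IsUnit u := by
  obtain ⟨v, hv⟩ := (he' V le_rfl).2 e
  replace hv : v • e' = e := (congrArg (v • ·) (res_self e').symm).trans hv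
  refine IsUnit.of_mul_eq_one_right v ((he V le_rfl).1 ?_)
  show (v * u) • res L le_rfl e = (1 : Γ(X, V)) • res L le_rfl e
  rw [res_self, mul_smul, hu, hv, one_smul]

/-- The values of the functional do not depend on the frame. -/
theorem coef_eq {V : X.Opens} (n : ℕ) {e e' : Γ(L, V)} (he : IsFrame L V e) (he' : IsFrame L V e')
    {g g' c c' : Γ(X, V)} (hg : iter ψ V n e = g • e) (hg' : iter ψ V n e' = g' • e')
    (hc : c • Amp73.epow e (p ^ n - 1) = c' • Amp73.epow e' (p ^ n - 1)) : c * g = c' * g' := by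
  obtain ⟨u, hu⟩ := (he V le_rfl).2 e'
  replace hu : u • e = e' := (congrArg (u • ·) (res_self e).symm).trans hu
  have hunit := isUnit_of_frames he he' hu
  have hcc : c = c' * u ^ (p ^ n - 1) := by
    refine (Amp73.isFrame_epow he (p ^ n - 1) V le_rfl).1 ?_
    show c • res (CohB1.tensorPow L (p ^ n - 1)) le_rfl (Amp73.epow e (p ^ n - 1)) =
      (c' * u ^ (p ^ n - 1)) • res (CohB1.tensorPow L (p ^ n - 1)) le_rfl (Amp73.epow e (p ^ n - 1))
    rw [res_self, mul_smul, ← Amp73.epow_smul, hu, hc]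
  have hgu : g' * u = u ^ (p ^ n - 1) * g * u := by
    refine (he V le_rfl).1 ?_
    show (g' * u) • res L le_rfl e = (u ^ (p ^ n - 1) * g * u) • res L le_rfl e
    rw [res_self, mul_smul, hu, ← hg', ← hu, iter_smul, hg, smul_smul, mul_right_comm, ← pow_succ,
      Nat.sub_add_cancel (Nat.one_le_pow _ _ (Fact.out : p.Prime).pos)]
  rw [hcc, hunit.mul_right_cancel hgu]
  ring

/-- The functional on the `(p^n - 1)`-st power. -/
theorem exists_theta (hL : PicF.IsInvertible L) (n : ℕ) :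
    ∃ θ : CohB1.tensorPow L (p ^ n - 1) ⟶ Coh.structureModule X,
      ∀ (U : X.Opens) (e : Γ(L, U)) (g : Γ(X, U)), IsFrame L U e → iter ψ U n e = g • e →
        θ.app U (Amp73.epow e (p ^ n - 1)) = toUnit g := by
  let m := p ^ n - 1
  have hex : ∀ x : X, ∃ U : X.Opens, x ∈ U ∧ ∃ (e : Γ(L, U)) (g : Γ(X, U)), IsFrame L U e ∧ iter ψ U n e = g • e := by
    intro x
    obtain ⟨U, hx, e, he⟩ := Mero90.exists_frame' hL x
    obtain ⟨g, hg⟩ := (he U le_rfl).2 (iter ψ U n e)
    exact ⟨U, hx, e, g, he, hg.symm.trans (congrArg (g • ·) (res_self e))⟩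
  choose U hx e g he hg using hex
  let C := fun x => An92.InvMod.coordHom (Amp73.isFrame_epow (he x) m)
  let φ : ∀ x, HomOn (CohB1.tensorPow L m) (Coh.structureModule X) (U x) := fun x =>
    { app := fun W hW => LinearMap.lsmul Γ(X, W) Γ(Coh.structureModule X, W) (resO X hW (g x)) ∘ₗ (C x).app W hW
      app_res := fun {W W'} hW h s => by
        show resO X (h.trans hW) (g x) • (C x).app W' (h.trans hW) (res _ h s) =
          res _ h (resO X hW (g x) • (C x).app W hW s)
        rw [(C x).app_res, res_smul, resO_resO] }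
  have hcoord : ∀ x (W : X.Opens) (hW : W ≤ U x) (s : Γ(CohB1.tensorPow L m, W)),
      (show Γ(X, W) from (C x).app W hW s) • res (CohB1.tensorPow L m) hW (Amp73.epow (e x) m) = s := fun x W hW s =>
    (LinearEquiv.ofBijective (LinearMap.toSpanSingleton Γ(X, W) Γ(CohB1.tensorPow L m, W)
      (res (CohB1.tensorPow L m) hW (Amp73.epow (e x) m))) (Amp73.isFrame_epow (he x) m W hW)).apply_symm_apply s
  have hval : ∀ x (W : X.Opens) (hW : W ≤ U x) (e' : Γ(L, W)) (g' c' : Γ(X, W)), IsFrame L W e' →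
      iter ψ W n e' = g' • e' → (φ x).app W hW (c' • Amp73.epow e' m) = toUnit (c' * g') := by
    intro x W hW e' g' c' he' hg'
    show resO X hW (g x) * (show Γ(X, W) from (C x).app W hW (c' • Amp73.epow e' m)) = c' * g'
    rw [mul_comm]
    refine coef_eq ψ n ((he x).res hW) he' ?_ hg' ?_
    · show iter ψ W n (res L hW (e x)) = _
      rw [iter_res, hg, res_smul]
    · show _ • Amp73.epow (res L hW (e x)) m = _
      exact (congrArg (_ • ·) (Amp73.res_epow hW (e x) m).symm).trans (hcoord x W hW _)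
  have hcomp : HomOn.Compatible φ := by
    intro i j W hi hj s
    obtain ⟨c, hc⟩ := (Amp73.isFrame_epow ((he j).res hj) m W le_rfl).2 s
    replace hc : c • Amp73.epow (res L hj (e j)) m = s :=
      (congrArg (c • ·) (res_self (Amp73.epow (res L hj (e j)) m)).symm).trans hc
    have hge : iter ψ W n (res L hj (e j)) = resO X hj (g j) • res L hj (e j) := by rw [iter_res, hg, res_smul]
    rw [← hc, hval i W hi _ _ c ((he j).res hj) hge, hval j W hj _ _ c ((he j).res hj) hge]
  have htop : (⊤ : X.Opens) ≤ ⨆ x, U x := fun q _ => Opens.mem_iSup.mpr ⟨q, hx q⟩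
  let G := HomOn.glue hcomp htop
  refine ⟨G.toHom, fun V e' g' he' hg' => ?_⟩
  refine section_ext _ _ _ fun q hq => ⟨V ⊓ U q, inf_le_left, ⟨hq, hx q⟩, ?_⟩
  show res _ inf_le_left (G.app V le_top (Amp73.epow e' m)) = _
  rw [← G.app_res le_top inf_le_left, HomOn.glue_app hcomp htop le_top q inf_le_right,
    show res (CohB1.tensorPow L m) inf_le_left (Amp73.epow e' m) = Amp73.epow (res L inf_le_left e') m from
      Amp73.res_epow _ _ _,
    ← one_smul Γ(X, V ⊓ U q) (Amp73.epow (res L inf_le_left e') m),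
    hval q _ inf_le_right _ (resO X inf_le_left g') 1 (he'.res inf_le_left) (by rw [iter_res, hg', res_smul]), one_mul]
  rfl

/-- The global sections of the inverse are nonzero. -/
theorem nontrivial_hh_inverse (hL : PicF.IsInvertible L) (n : ℕ) {U : X.Opens} [IsDomain Γ(X, U)] {e : Γ(L, U)}
    (he : IsFrame L U e) {D : Γ(X, U)} (hD : D ≠ 0) (h : semi ψ U e = D • e)
    {N : X.Modules} (hN : ClSub.IsInverseOf N (CohB1.tensorPow L (p ^ n - 1))) :
    Nontrivial (Coh.HH X N 0) := by
  obtain ⟨θ, hθ⟩ := exists_theta ψ hL n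
  obtain ⟨g, hg0, hg⟩ := exists_iter_ne_zero ψ hD h n
  let M := CohB1.tensorPow L (p ^ n - 1)
  let s : Γ(RefHull.dual M, ⊤) := Div89.secOfHomOn (HomOn.ofHom θ ⊤)
  have hs : s ≠ 0 := by
    intro h0
    have h1 : HomOn.ofHom θ ⊤ = Div89.homOnOfSec (0 : Γ(RefHull.dual M, ⊤)) :=
      (Div89.homOnOfSec_secOfHomOn _).symm.trans (congrArg Div89.homOnOfSec h0)
    have h2 : θ.app U (Amp73.epow e (p ^ n - 1)) =
        (Div89.homOnOfSec (0 : Γ(RefHull.dual M, ⊤))).app U le_top (Amp73.epow e (p ^ n - 1)) :=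
      congrArg (fun F : HomOn M (Coh.structureModule X) ⊤ => F.app U le_top (Amp73.epow e (p ^ n - 1))) h1
    have h3 : (Div89.homOnOfSec (0 : Γ(RefHull.dual M, ⊤))).app U le_top (Amp73.epow e (p ^ n - 1)) = 0 := by
      refine TopCat.Presheaf.section_ext (⟨Scheme.Modules.presheaf (Coh.structureModule X),
        (Coh.structureModule X : X.Modules).isSheaf⟩ : TopCat.Sheaf Ab X) U _ _ fun y hy => ?_
      refine (Div89.homOnOfSec_germ (0 : Γ(RefHull.dual M, ⊤)) le_top _ y hy).trans ?_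
      exact (map_zero _).symm
    rw [hθ U e g he hg, h3] at h2
    exact hg0 h2
  obtain ⟨hdual, ⟨ε⟩⟩ := Div89.exists_dual_tensor
    (L := M) (EGA73.isInvertible_tensorPow hL _)
  obtain ⟨a⟩ := hN
  obtain ⟨κ⟩ := Div89.inverse_unique ε a
  have hs' : κ.hom.app ⊤ s ≠ 0 := by
    intro h0
    exact hs ((ConcreteCategory.bijective_of_isIso (κ.hom.app ⊤)).1 (h0.trans (map_zero _).symm))
  exact ((Coh69.hhEquiv N 0).trans (Coh69.he0Equiv (Coh.toAb N) ⊤)).toEquiv.nontrivial_congr.2 ⟨⟨_, _, hs'⟩⟩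

end Groth.Agent.FrobDiv3
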