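import Groth.Agent.FrobDiv3.Lifted
import Groth.Agent.Frob53.FrobLine
import Groth.Agent.Var76.OmegaUniv
import Groth.Agent.EGAProj74.SymAlg

/-!
The `p`-semilinear endomorphism of the sheaf of differentials attached to a Frobenius lift.
-/

set_option autoImplicit false
set_option linter.style.haveILetI false
set_option backward.isDefEq.respectTransparency.types false
set_option maxHeartbeats 1000000

universe u

open CategoryTheory CategoryTheory.Limits AlgebraicGeometry TopologicalSpace Opposite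

noncomputable section

namespace Groth.Agent.FrobDiv3

open QC70

variable {p : ℕ} [Fact p.Prime] {k : Type u} [Field k] [CharP k p] [PerfectRing k p] {X Xl : Scheme.{u}}
  [FrobSch.IsCharP X p]
  {f : X ⟶ Spec (CommRingCat.of k)} [QuasiSeparated f]
  {g : Xl ⟶ Spec (CommRingCat.of (FrobAlg.W2 p k))} [Flat g]
  {i : X ⟶ Xl} (hsq : IsPullback i f g (Spec.map (CommRingCat.ofHom (FrobAlg.res p k))))
  {Fl : Xl ⟶ Xl} (hF : i ≫ Fl = FrobSch.frob X p ≫ i)

/-- The derivation on an open as a homomorphism. -/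
def dU (f : X ⟶ Spec (CommRingCat.of k)) [QuasiSeparated f] (U : X.Opens) : Γ(X, U) →+ Γ(Omega.sheaf f, U) :=
  AddMonoidHom.mk' (OmegaSh.dSect f U) (OmegaSh.dSect_add f U)

omit [Fact p.Prime] [CharP k p] [PerfectRing k p] [FrobSch.IsCharP X p] in
theorem dU_mul (U : X.Opens) (a b : Γ(X, U)) : dU f U (a * b) = a • dU f U b + b • dU f U a :=
  OmegaSh.dSect_mul f U a b

/-- The value of the divided differential. -/
def IsDiv (i : X ⟶ Xl) (Fl : Xl ⟶ Xl) (U : X.Opens) (a : Γ(X, U)) (v : Γ(Omega.sheaf f, U)) : Prop :=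
  ∀ (U' : Xl.Opens) (h : U ≤ i ⁻¹ᵁ U') (hle : U' ≤ Fl ⁻¹ᵁ U') (b F : Γ(Xl, U')), IsAffineOpen U' → i ⁻¹ᵁ U' = U →
    i.appLE U' U h b = a → Fl.appLE U' U' hle b = b ^ p + (p : Γ(Xl, U')) * F →
    v = a ^ (p - 1) • dU f U a + dU f U (i.appLE U' U h F)

include hsq hF

theorem exists_div {U : X.Opens} (hU : IsAffineOpen U) :
    ∃ δ : Γ(X, U) →+ Γ(Omega.sheaf f, U), (∀ a b, δ (a * b) = a ^ p • δ b + b ^ p • δ a) ∧
      (∀ a, δ (a ^ p) = 0) ∧ (∀ a, IsDiv (p := p) i Fl U a (δ a)) ∧
      ∀ a, ∃ c, δ a = a ^ (p - 1) • dU f U a + dU f U c := by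
  obtain ⟨U', hU', hpre⟩ := exists_lifted hsq hU
  obtain ⟨𝔖, hπ, hΦ⟩ := exists_setup hsq hF hU' hpre
  refine ⟨AddMonoidHom.mk' (𝔖.delta (dU f U)) (𝔖.delta_add _ (dU_mul U)), 𝔖.delta_mul _ (dU_mul U),
    𝔖.delta_pow_p _ (dU_mul U), fun a U'' h hle b F hU'' hpre' hb hFb => ?_, 𝔖.exists_delta _⟩
  have : U'' = U' := by
    haveI := surjective_i hsq
    refine TopologicalSpace.Opens.ext (Set.preimage_injective.2 i.surjective ?_)
    exact congrArg (fun O : X.Opens => (O : Set X)) (hpre'.trans hpre.symm)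
  subst this
  show 𝔖.delta (dU f U) a = _
  rw [𝔖.delta_eq (dU f U) (dU_mul U) (b := b) (F := F) (by rw [hπ]; exact hb) (by rw [hΦ]; exact hFb), hπ]

theorem exists_hom : ∃ φ : Omega.sheaf f ⟶ Frob53.pf p (Omega.sheaf f), ∀ (U : X.Opens), IsAffineOpen U →
    ∀ a : Γ(X, U), ∃ c : Γ(X, U),
      φ.app U (OmegaSh.dSect f U a) = (show Γ(Frob53.pf p (Omega.sheaf f), U) from
        (a ^ (p - 1) • dU f U a + dU f U c : Γ(Omega.sheaf f, U))) := by
  haveI : (Omega.sheaf f).IsQuasicoherent := Omega57.isQuasicoherent_omega f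
  choose δ hmul hpow hdiv hex using fun U : X.AffineZariskiSite => exists_div hsq hF U.2
  have hlin : ∀ U : X.AffineZariskiSite, ∃ l : Γ(Omega.sheaf f, U.1) →ₗ[Γ(X, U.1)] Γ(Frob53.pf p (Omega.sheaf f), U.1),
      ∀ a, l (OmegaSh.dSect f U.1 a) = δ U a := by
    intro U
    have h : U.1 ≤ f ⁻¹ᵁ ⊤ := le_top
    have hc : ∀ c, δ U (f.appLE ⊤ U.1 h c) = 0 := by
      intro c
      haveI : CharP Γ(Spec (CommRingCat.of k), ⊤) p :=
        charP_of_injective_ringHom (Scheme.ΓSpecIso (CommRingCat.of k)).commRingCatIsoToRingEquiv.symm.injective p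
      obtain ⟨e, he⟩ : ∃ e : Γ(Spec (CommRingCat.of k), ⊤), e ^ p = c := by
        let r := (Scheme.ΓSpecIso (CommRingCat.of k)).commRingCatIsoToRingEquiv
        obtain ⟨x, hx⟩ := (frobeniusEquiv k p).surjective (r c)
        refine ⟨r.symm x, ?_⟩
        rw [← map_pow]
        exact (congrArg r.symm (show x ^ p = r c from hx)).trans (r.symm_apply_apply c)
      rw [← he, map_pow]
      exact hpow U _
    let D : (OmAff.sectMod (Frob53.pf p (Omega.sheaf f)) U.1).Derivation (f.appLE ⊤ U.1 h) :=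
      ModuleCat.Derivation.mk (fun b => (show Γ(Frob53.pf p (Omega.sheaf f), U.1) from δ U b))
        (fun a b => map_add _ a b) (fun a b => hmul U a b) hc
    have := Omega57.isIso_toSect f U.2 (isAffineOpen_top (Spec (CommRingCat.of k))) h
    let l := inv (OmAff.toSect f ⊤ U.1 h) ≫ D.desc
    refine ⟨l.hom, fun a => ?_⟩
    show D.desc (inv (OmAff.toSect f ⊤ U.1 h) (OmegaSh.dSect f U.1 a)) = _
    rw [← OmAff.toSect_d f ⊤ U.1 h a, ← ConcreteCategory.comp_apply (OmAff.toSect f ⊤ U.1 h), IsIso.hom_inv_id]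
    exact D.desc_d a
  choose l hl using hlin
  obtain ⟨φ, hφ, -⟩ := EGAProj74.existsUnique_hom_of_affine (M := Omega.sheaf f) (N := Frob53.pf p (Omega.sheaf f)) l
    fun U r m => by
      induction m using Var76.OmegaUniv.sect_induction U.2 (isAffineOpen_top (Spec (CommRingCat.of k)))
        (show U.1 ≤ f ⁻¹ᵁ ⊤ from le_top) with
      | h0 => rw [map_zero, res_zero, map_zero]; exact (res_zero _).symm
      | hadd x y hx hy => rw [res_add, map_add, hx, hy, map_add]; exact (res_add _ _ _).symm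
      | hsmul a y hy => rw [res_smul]; exact ((map_smul (l (U.basicOpen r)) _ _).trans (congrArg (_ • ·) hy)).trans ((res_smul (X.basicOpen_le r) _ _).symm.trans (congrArg _ (map_smul (l U) _ _).symm))
      | hd a =>
        refine ((congrArg (l (U.basicOpen r)) (OmegaSh.dSect_map f (X.basicOpen_le r) a).symm).trans
          (hl (U.basicOpen r) (resO X (X.basicOpen_le r) a))).trans
          (Eq.trans ?_ (congrArg (res _ (X.basicOpen_le r)) (hl U a)).symm)
        obtain ⟨U', hU', hpre⟩ := exists_lifted hsq U.2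
        obtain ⟨𝔖, hπ, hΦ⟩ := exists_setup hsq hF hU' hpre
        obtain ⟨b, hb⟩ := 𝔖.surj a
        obtain ⟨F, hFb⟩ := 𝔖.exists_F b
        rw [hπ] at hb
        rw [hΦ] at hFb
        obtain ⟨V', hV', hpreV⟩ := exists_lifted hsq (U.2.basicOpen r)
        have hVU : V' ≤ U' := fun y hy => by
          obtain ⟨x, rfl⟩ := (surjective_i hsq).surj y
          have hx : x ∈ X.basicOpen r := hpreV.le hy
          exact hpre.ge (X.basicOpen_le r hx)
        have h1 := hdiv U a U' hpre.ge (le_preimage hsq hF U') b F hU' hpre hb hFb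
        have hnat : ∀ z, i.appLE V' (U.basicOpen r).1 hpreV.ge (Xl.presheaf.map (homOfLE hVU).op z) =
            resO X (X.basicOpen_le r) (i.appLE U' U.1 hpre.ge z) := fun z => by
          show _ = X.presheaf.map (homOfLE (X.basicOpen_le r)).op _
          rw [← ConcreteCategory.comp_apply, ← ConcreteCategory.comp_apply, Scheme.Hom.map_appLE, Scheme.Hom.appLE_map]
          rfl
        have h2 := hdiv (U.basicOpen r) (resO X (X.basicOpen_le r) a) V' hpreV.ge (le_preimage hsq hF V')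
          (Xl.presheaf.map (homOfLE hVU).op b) (Xl.presheaf.map (homOfLE hVU).op F) hV' hpreV
          ((hnat b).trans (congrArg _ hb)) (by
            refine Eq.trans ?_ ((congrArg (Xl.presheaf.map (homOfLE hVU).op) hFb).trans (by
              rw [map_add, map_mul, map_pow, map_natCast]))
            rw [← ConcreteCategory.comp_apply, ← ConcreteCategory.comp_apply, Scheme.Hom.map_appLE,
              Scheme.Hom.appLE_map])
        show (δ (U.basicOpen r) (resO X (X.basicOpen_le r) a) : Γ(Omega.sheaf f, (U.basicOpen r).1)) =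
          res (Omega.sheaf f) (X.basicOpen_le r) (δ U a)
        rw [h1, h2, res_add, res_smul, hnat, resO_pow]
        show _ • OmegaSh.dSect f _ _ + OmegaSh.dSect f _ _ = _ • res _ _ (OmegaSh.dSect f _ _) + res _ _ (OmegaSh.dSect f _ _)
        exact congrArg₂ (· + ·) (congrArg (_ • ·)
          (OmegaSh.dSect_map f (X.basicOpen_le r) a)) (OmegaSh.dSect_map f (X.basicOpen_le r) _)
  refine ⟨φ, fun U hU a => ?_⟩
  obtain ⟨c, hc⟩ := hex ⟨U, hU⟩ a
  exact ⟨c, ((hφ ⟨U, hU⟩ _).trans (hl ⟨U, hU⟩ a)).trans hc⟩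

end Groth.Agent.FrobDiv3
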