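import Groth.Agent.Frob53.FrobLine
import Groth.Agent.Om3.ExtPowFrames
import Groth.Agent.EGAProj74.SymAlg

/-!
The exterior powers of a `p`-semilinear endomorphism.
-/

set_option autoImplicit false
set_option linter.style.haveILetI false
set_option backward.isDefEq.respectTransparency.types false
set_option maxHeartbeats 1000000

universe u

open CategoryTheory CategoryTheory.Limits AlgebraicGeometry TopologicalSpace Opposite exteriorPower

noncomputable section

namespace Groth.Agent.FrobDiv3

open QC70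

variable {p : ℕ} [Fact p.Prime] {X : Scheme.{u}} [FrobSch.IsCharP X p] {E L : X.Modules} {d : ℕ}

/-- A semilinear endomorphism on sections. -/
def semi {M : X.Modules} (φ : M ⟶ Frob53.pf p M) (U : X.Opens) (x : Γ(M, U)) : Γ(M, U) := φ.app U x

theorem semi_add {M : X.Modules} (φ : M ⟶ Frob53.pf p M) (U : X.Opens) (x y : Γ(M, U)) :
    semi φ U (x + y) = semi φ U x + semi φ U y :=
  map_add (φ.app U).hom x y

theorem semi_smul {M : X.Modules} (φ : M ⟶ Frob53.pf p M) (U : X.Opens) (r : Γ(X, U)) (x : Γ(M, U)) :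
    semi φ U (r • x) = r ^ p • semi φ U x :=
  Scheme.Modules.Hom.app_smul φ r x

theorem semi_res {M : X.Modules} (φ : M ⟶ Frob53.pf p M) {U V : X.Opens} (h : V ≤ U) (x : Γ(M, U)) :
    semi φ V (res M h x) = res M h (semi φ U x) :=
  QC70.app_res φ h x

theorem exists_wedge [E.IsQuasicoherent] (hL : ExtPow.IsExtPow d E L) (φ : E ⟶ Frob53.pf p E) :
    ∃ (χ : ∀ W : X.affineOpens, ↥(⋀[Γ(X, W.1)]^d Γ(E, W.1)) ≃ₗ[Γ(X, W.1)] Γ(L, W.1)) (ψ : L ⟶ Frob53.pf p L),
      ∀ (W : X.affineOpens) (e : Fin d → Γ(E, W.1)),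
        semi ψ W.1 (χ W (ιMulti _ d e)) = χ W (ιMulti _ d fun j => semi φ W.1 (e j)) := by
  haveI := Om3.isQuasicoherent_of_isExtPow hL
  obtain ⟨χ, hχ⟩ := Om3.exists_psi hL
  let alt : ∀ W : X.affineOpens, AlternatingMap Γ(X, W.1) Γ(E, W.1) Γ(Frob53.pf p L, W.1) (Fin d) := fun W =>
    { toFun := fun e => (show Γ(Frob53.pf p L, W.1) from χ W (ιMulti _ d fun j => semi φ W.1 (e j)))
      map_update_add' := fun e i x y => by
        change χ W (ιMulti _ d fun j => semi φ W.1 (Function.update e i (x + y) j)) =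
          χ W (ιMulti _ d fun j => semi φ W.1 (Function.update e i x j)) +
          χ W (ιMulti _ d fun j => semi φ W.1 (Function.update e i y j))
        simp only [Function.apply_update (fun _ => semi φ W.1)]
        rw [semi_add, AlternatingMap.map_update_add, map_add]
      map_update_smul' := fun e i r x => by
        change χ W (ιMulti _ d fun j => semi φ W.1 (Function.update e i (r • x) j)) =
          r ^ p • χ W (ιMulti _ d fun j => semi φ W.1 (Function.update e i x j))
        simp only [Function.apply_update (fun _ => semi φ W.1)]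
        rw [semi_smul, AlternatingMap.map_update_smul, map_smul]
      map_eq_zero_of_eq' := fun e i j h hij => by
        show (χ W (ιMulti _ d fun j => semi φ W.1 (e j)) : Γ(L, W.1)) = (0 : Γ(L, W.1))
        rw [AlternatingMap.map_eq_zero_of_eq _ (fun j => semi φ W.1 (e j)) (congrArg (semi φ W.1) h) hij, map_zero] }
  let l : ∀ W : X.affineOpens, Γ(L, W.1) →ₗ[Γ(X, W.1)] Γ(Frob53.pf p L, W.1) := fun W =>
    (alternatingMapLinearEquiv (alt W)).comp (χ W).symm.toLinearMap
  have hl : ∀ (W : X.affineOpens) (e : Fin d → Γ(E, W.1)),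
      l W (χ W (ιMulti _ d e)) = (show Γ(Frob53.pf p L, W.1) from χ W (ιMulti _ d fun j => semi φ W.1 (e j))) :=
    fun W e => by
      show alternatingMapLinearEquiv (alt W) ((χ W).symm (χ W (ιMulti _ d e))) = _
      rw [LinearEquiv.symm_apply_apply, alternatingMapLinearEquiv_apply_ιMulti]
      rfl
  obtain ⟨ψ, hψ, -⟩ := EGAProj74.existsUnique_hom_of_affine (M := L) (N := Frob53.pf p L)
    (fun U => l ⟨U.1, U.2⟩) fun U r m => by
      let V : X.affineOpens := ⟨X.basicOpen r, U.2.basicOpen r⟩
      let W : X.affineOpens := ⟨U.1, U.2⟩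
      have h : V.1 ≤ W.1 := X.basicOpen_le r
      obtain ⟨y, rfl⟩ := (χ W).surjective m
      have key := DFunLike.congr_fun (Om3.semilinear_ext (resO X h)
        (AddMonoidHom.mk' (fun z => l V (res L h (χ W z))) fun a b => by
          rw [map_add (χ W), res_add, map_add (l V)])
        (AddMonoidHom.mk' (fun z => res (Frob53.pf p L) h (l W (χ W z))) fun a b => by
          rw [map_add (χ W), map_add (l W), res_add])
        (fun c z => by
          show l V (res L h (χ W (c • z))) = resO X h c • l V (res L h (χ W z))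
          rw [map_smul (χ W), res_smul, map_smul (l V)])
        (fun c z => by
          show res (Frob53.pf p L) h (l W (χ W (c • z))) = resO X h c • res (Frob53.pf p L) h (l W (χ W z))
          rw [map_smul (χ W), map_smul (l W), res_smul])
        (ιMulti_span Γ(X, W.1) d Γ(E, W.1)) (by
          rintro _ ⟨e, rfl⟩
          show l V (res L h (χ W (ιMulti _ d e))) = res (Frob53.pf p L) h (l W (χ W (ιMulti _ d e)))
          rw [hχ W V h, Om3.resExt_ιMulti, hl, hl]
          show χ V _ = res L h (χ W _)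
          rw [hχ W V h, Om3.resExt_ιMulti]
          exact congrArg (fun v => χ V (ιMulti _ d v)) (funext fun j => semi_res φ h (e j)))) y
      exact key
  exact ⟨χ, ψ, fun W e => (hψ ⟨W.1, W.2⟩ _).trans (hl W e)⟩

/-- A semilinear endomorphism sends a frame to the multiple by the determinant. -/
theorem semi_wedge (χ : ∀ W : X.affineOpens, ↥(⋀[Γ(X, W.1)]^d Γ(E, W.1)) ≃ₗ[Γ(X, W.1)] Γ(L, W.1))
    {φ : E ⟶ Frob53.pf p E} {ψ : L ⟶ Frob53.pf p L}
    (hψ : ∀ (W : X.affineOpens) (e : Fin d → Γ(E, W.1)),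
      semi ψ W.1 (χ W (ιMulti _ d e)) = χ W (ιMulti _ d fun j => semi φ W.1 (e j)))
    (W : X.affineOpens) (b : Module.Basis (Fin d) Γ(X, W.1) Γ(E, W.1)) :
    semi ψ W.1 (χ W (ιMulti _ d b)) =
      (Matrix.of fun i j => b.repr (semi φ W.1 (b i)) j).det • χ W (ιMulti _ d b) := by
  rw [hψ, ← map_smul]
  congr 1
  have hF : ιMulti Γ(X, W.1) d (M := Γ(E, W.1)) =
      (LinearMap.toSpanSingleton Γ(X, W.1) _ (ιMulti Γ(X, W.1) d b)).compAlternatingMap b.det := by
    refine Module.Basis.ext_alternating b fun v hv => ?_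
    let σ := Equiv.ofBijective v (Finite.injective_iff_bijective.1 hv)
    show ιMulti Γ(X, W.1) d (⇑b ∘ ⇑σ) = (b.det (⇑b ∘ ⇑σ)) • ιMulti Γ(X, W.1) d ⇑b
    rw [AlternatingMap.map_perm, AlternatingMap.map_perm, Module.Basis.det_self]
    show Equiv.Perm.sign σ • _ = _
    rw [Units.smul_def, Units.smul_def, zsmul_eq_mul, mul_one]
    exact (Int.cast_smul_eq_zsmul _ _ _).symm
  refine (DFunLike.congr_fun hF fun j => semi φ W.1 (b j)).trans ?_
  show b.det (fun j => semi φ W.1 (b j)) • ιMulti _ d b = _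
  rw [Module.Basis.det_apply, ← Matrix.det_transpose]
  congr 2

end Groth.Agent.FrobDiv3
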